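import Mathlib.RingTheory.Finiteness.ModuleFinitePresentation
import Mathlib.RingTheory.FinitePresentation
import Mathlib.RingTheory.FiniteStability
import Mathlib.RingTheory.Localization.Away.AdjoinRoot
import Mathlib.RingTheory.IntegralClosure.IsIntegralClosure.Basic
import Mathlib.RingTheory.LocalProperties.FinitePresentation
import Mathlib.RingTheory.TensorProduct.Maps
import Mathlib.RingTheory.IntegralClosure.Algebra.Basic

/-!
Finite presentation of modules relative to a base ring does not depend on the presentation.
-/

set_option autoImplicit false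
set_option linter.style.haveILetI false
set_option backward.isDefEq.respectTransparency false
set_option backward.isDefEq.respectTransparency.types false
universe u

open scoped TensorProduct

namespace Groth.Agent.RelFP

theorem fp_iff_of_module_fp (C D : Type u) [CommRing C] [CommRing D] [Algebra C D] [Module.FinitePresentation C D]
    (M : Type u) [AddCommGroup M] [Module C M] [Module D M] [IsScalarTower C D M]
    [Module.Finite D M] : Module.FinitePresentation C M ↔ Module.FinitePresentation D M := by
  refine ⟨fun h => ?_, fun h => Module.FinitePresentation.trans (R := C) (M := M) D⟩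
  obtain ⟨n, f, hf⟩ := Module.Finite.exists_fin' D M
  haveI : Module.Finite C (Fin n → D) := inferInstance
  have hk : (LinearMap.ker (f.restrictScalars C)).FG :=
    Module.FinitePresentation.fg_ker (f.restrictScalars C) hf
  refine Module.finitePresentation_of_surjective f hf ?_
  obtain ⟨s, hs⟩ := hk
  refine ⟨s, le_antisymm (Submodule.span_le.2 fun x hx => ?_) fun x hx => ?_⟩
  · exact hs.le (Submodule.subset_span hx)
  · exact Submodule.span_le_restrictScalars C D _ (hs.ge hx)

theorem fp_iff_of_integral (P C B : Type u) [CommRing P] [CommRing C] [CommRing B] [Algebra P C]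
    [Algebra.FinitePresentation P C] [Algebra P B] (ψ : C →ₐ[P] B) [Algebra.IsIntegral P B]
    (M : Type u) [AddCommGroup M] [Module B M] [Module.Finite B M] (hsurj : ∀ b : B, IsIntegral P b)
    [Module P M] [IsScalarTower P B M] [Module C M] (hC : ∀ (c : C) (m : M), c • m = ψ c • m)
    [Module.Finite C M] :
    Module.FinitePresentation P M ↔ Module.FinitePresentation C M := by
  classical
  obtain ⟨s, hs⟩ := (Algebra.FiniteType.out (R := P) (A := C))
  choose q hqm hq using fun c : C => hsurj (ψ c)
  let J : Ideal C := Ideal.span ((fun c => Polynomial.aeval c (q c)) '' (s : Set C))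
  have hJ : J.FG := ⟨s.image fun c => Polynomial.aeval c (q c), by simp [J]⟩
  haveI : Algebra.FinitePresentation P (C ⧸ J) := Algebra.FinitePresentation.quotient hJ
  have hadj : Algebra.adjoin P ((Ideal.Quotient.mkₐ P J) '' (s : Set C)) = ⊤ := by
    rw [← AlgHom.map_adjoin, hs, Algebra.map_top, AlgHom.range_eq_top]
    exact Ideal.Quotient.mk_surjective
  haveI : Module.Finite P (C ⧸ J) := by
    constructor
    rw [← Algebra.top_toSubmodule, ← hadj]
    refine fg_adjoin_of_finite (s.finite_toSet.image _) ?_
    rintro _ ⟨c, hc, rfl⟩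
    refine ⟨q c, hqm c, ?_⟩
    rw [← Polynomial.aeval_def, Polynomial.aeval_algHom_apply]
    exact Ideal.Quotient.eq_zero_iff_mem.2 (Ideal.subset_span ⟨c, hc, rfl⟩)
  haveI : Module.FinitePresentation P (C ⧸ J) := Module.FinitePresentation.of_finite_of_finitePresentation _ _
  have hJψ : ∀ a ∈ J, ψ a = 0 := fun a ha => (Ideal.span_le.2 (by
    rintro _ ⟨c, hc, rfl⟩
    change ψ (Polynomial.aeval c (q c)) = 0
    rw [← Polynomial.aeval_algHom_apply, Polynomial.aeval_def]
    exact hq c) : J ≤ RingHom.ker ψ) ha
  let ψ' : (C ⧸ J) →ₐ[P] B := Ideal.Quotient.liftₐ J ψ hJψ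
  letI : Module (C ⧸ J) M := Module.compHom M ψ'.toRingHom
  haveI : IsScalarTower P (C ⧸ J) M := IsScalarTower.of_algebraMap_smul fun p m => by
    change ψ' (algebraMap P (C ⧸ J) p) • m = _
    rw [ψ'.commutes, algebraMap_smul]
  haveI : IsScalarTower C (C ⧸ J) M := IsScalarTower.of_algebraMap_smul fun c m => (hC c m).symm
  haveI : Module.FinitePresentation C C := inferInstance
  haveI : Module.FinitePresentation C (C ⧸ J) :=
    Module.finitePresentation_of_surjective (Algebra.linearMap C (C ⧸ J)) Ideal.Quotient.mk_surjective (by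
      have : LinearMap.ker (Algebra.linearMap C (C ⧸ J)) = J := by
        ext x
        exact Ideal.Quotient.eq_zero_iff_mem
      rw [this]
      exact hJ)
  haveI : Module.Finite (C ⧸ J) M := Module.Finite.of_restrictScalars_finite C (C ⧸ J) M
  exact (fp_iff_of_module_fp P (C ⧸ J) M).trans (fp_iff_of_module_fp C (C ⧸ J) M).symm

/-- The main independence statement. -/
theorem fp_iff (R P Q B : Type u) [CommRing R] [CommRing P] [CommRing Q] [CommRing B] [Algebra R P] [Algebra R Q]
    [Algebra R B] [Algebra.FinitePresentation R P] [Algebra.FinitePresentation R Q] [Algebra P B] [Algebra Q B]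
    [IsScalarTower R P B] [IsScalarTower R Q B] [Algebra.IsIntegral P B] [Algebra.IsIntegral Q B]
    [Algebra.FiniteType R B]
    (M : Type u) [AddCommGroup M] [Module B M] [Module P M] [Module Q M] [IsScalarTower P B M] [IsScalarTower Q B M] :
    Module.FinitePresentation P M ↔ Module.FinitePresentation Q M := by
  haveI : Algebra.FiniteType P B := Algebra.FiniteType.of_restrictScalars_finiteType R P B
  haveI : Algebra.FiniteType Q B := Algebra.FiniteType.of_restrictScalars_finiteType R Q B
  haveI : Module.Finite P B := Algebra.IsIntegral.finite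
  haveI : Module.Finite Q B := Algebra.IsIntegral.finite
  let ψ : P ⊗[R] Q →ₐ[R] B :=
    Algebra.TensorProduct.lift (IsScalarTower.toAlgHom R P B) (IsScalarTower.toAlgHom R Q B)
      fun _ _ => Commute.all _ _
  letI : Module (P ⊗[R] Q) M := Module.compHom M ψ.toRingHom
  letI : Algebra (P ⊗[R] Q) B := ψ.toRingHom.toAlgebra
  haveI : IsScalarTower (P ⊗[R] Q) B M := IsScalarTower.of_algebraMap_smul fun c m => rfl
  have hP : ∀ a : P, ψ (a ⊗ₜ[R] (1 : Q)) = algebraMap P B a := fun a =>
    (Algebra.TensorProduct.lift_tmul _ _ (fun _ _ => Commute.all _ _) _ _).trans (by rw [map_one, mul_one]; rfl)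
  have hQ : ∀ a : Q, ψ ((1 : P) ⊗ₜ[R] a) = algebraMap Q B a := fun a =>
    (Algebra.TensorProduct.lift_tmul _ _ (fun _ _ => Commute.all _ _) _ _).trans (by rw [map_one, one_mul]; rfl)
  let ψP : P ⊗[R] Q →ₐ[P] B := { ψ with commutes' := hP }
  letI : Algebra Q (P ⊗[R] Q) := Algebra.TensorProduct.rightAlgebra
  haveI : Algebra.FinitePresentation Q (P ⊗[R] Q) :=
    Algebra.FinitePresentation.equiv
      ({ (Algebra.TensorProduct.comm R Q P).toRingEquiv with
        commutes' := fun a => by
          change (Algebra.TensorProduct.comm R Q P) (a ⊗ₜ[R] (1 : P)) = _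
          rw [Algebra.TensorProduct.comm_tmul]
          rfl } : Q ⊗[R] P ≃ₐ[Q] P ⊗[R] Q)
  let ψQ : P ⊗[R] Q →ₐ[Q] B := { ψ with commutes' := hQ }
  constructor
  · intro h
    haveI := h
    haveI : Module.Finite B M := Module.Finite.of_restrictScalars_finite P B M
    haveI : Module.Finite Q M := Module.Finite.trans B M
    haveI : IsScalarTower P (P ⊗[R] Q) M := IsScalarTower.of_algebraMap_smul fun a m => by
      change ψP (algebraMap P _ a) • m = _
      rw [ψP.commutes, algebraMap_smul]
    haveI : Module.Finite (P ⊗[R] Q) M := Module.Finite.of_restrictScalars_finite P (P ⊗[R] Q) M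
    have h1 : Module.FinitePresentation (P ⊗[R] Q) M :=
      (fp_iff_of_integral P (P ⊗[R] Q) B ψP M (fun b => Algebra.IsIntegral.isIntegral b) fun _ _ => rfl).1 h
    exact (fp_iff_of_integral Q (P ⊗[R] Q) B ψQ M (fun b => Algebra.IsIntegral.isIntegral b) fun _ _ => rfl).2 h1
  · intro h
    haveI := h
    haveI : Module.Finite B M := Module.Finite.of_restrictScalars_finite Q B M
    haveI : IsScalarTower Q (P ⊗[R] Q) M := IsScalarTower.of_algebraMap_smul fun a m => by
      change ψQ (algebraMap Q _ a) • m = _
      rw [ψQ.commutes, algebraMap_smul]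
    haveI : Module.Finite (P ⊗[R] Q) M := Module.Finite.of_restrictScalars_finite Q (P ⊗[R] Q) M
    have h1 : Module.FinitePresentation (P ⊗[R] Q) M :=
      (fp_iff_of_integral Q (P ⊗[R] Q) B ψQ M (fun b => Algebra.IsIntegral.isIntegral b) fun _ _ => rfl).1 h
    exact (fp_iff_of_integral P (P ⊗[R] Q) B ψP M (fun b => Algebra.IsIntegral.isIntegral b) fun _ _ => rfl).2 h1

theorem finite_of_surjective_algebraMap {P A : Type u} [CommRing P] [CommRing A] [Algebra P A]
    (h : Function.Surjective (algebraMap P A)) : Module.Finite P A :=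
  Module.Finite.of_surjective (Algebra.linearMap P A) h

/-- Gluing finite presentation along basic opens, over a presented quotient. -/
theorem fp_iff_local {R A : Type u} [CommRing R] [CommRing A] [Algebra R A] {n : ℕ}
    [Algebra (MvPolynomial (Fin n) R) A] [IsScalarTower R (MvPolynomial (Fin n) R) A]
    (hα : Function.Surjective (algebraMap (MvPolynomial (Fin n) R) A))
    (M : Type u) [AddCommGroup M] [Module A M] [Module (MvPolynomial (Fin n) R) M]
    [IsScalarTower (MvPolynomial (Fin n) R) A M] {r : ℕ} (f : Fin r → A) (hf : Ideal.span (Set.range f) = ⊤)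
    (k : Fin r → ℕ) [∀ i, Algebra (MvPolynomial (Fin (k i)) R) (Localization.Away (f i))]
    [∀ i, IsScalarTower R (MvPolynomial (Fin (k i)) R) (Localization.Away (f i))]
    (hγ : ∀ i, Function.Surjective (algebraMap (MvPolynomial (Fin (k i)) R) (Localization.Away (f i))))
    [∀ i, Module (MvPolynomial (Fin (k i)) R) (LocalizedModule (Submonoid.powers (f i)) M)]
    [∀ i, IsScalarTower (MvPolynomial (Fin (k i)) R) (Localization.Away (f i))
      (LocalizedModule (Submonoid.powers (f i)) M)] :
    Module.FinitePresentation (MvPolynomial (Fin n) R) M ↔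
      ∀ i, Module.FinitePresentation (MvPolynomial (Fin (k i)) R) (LocalizedModule (Submonoid.powers (f i)) M) := by
  classical
  let P := MvPolynomial (Fin n) R
  haveI : Algebra.FinitePresentation R P := inferInstance
  haveI : Algebra.FiniteType R A :=
    Algebra.FiniteType.of_surjective (IsScalarTower.toAlgHom R P A) hα
  haveI : Module.Finite P A := finite_of_surjective_algebraMap hα
  haveI : Algebra.IsIntegral P A := Algebra.IsIntegral.of_finite P A
  choose g hg using fun i => hα (f i)
  -- `P' = P / (g₀)` with `g₀ = 1 - ∑ c i g i`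
  obtain ⟨c, hc⟩ := (Ideal.mem_span_range_iff_exists_fun (x := (1 : A)) (v := f)).1 (hf ▸ Submodule.mem_top)
  choose c' hc' using fun i => hα (c i)
  let g₀ : P := 1 - ∑ i, c' i * g i
  have hg₀ : algebraMap P A g₀ = 0 := by
    simp only [g₀, map_sub, map_one, map_sum, map_mul, sub_eq_zero]
    rw [← hc]
    exact Finset.sum_congr rfl fun i _ => (congrArg₂ (· * ·) (hc' i) (hg i)).symm
  let P' := P ⧸ Ideal.span {g₀}
  haveI : Algebra.FinitePresentation R P' :=
    Algebra.FinitePresentation.quotient ⟨{g₀}, by simp⟩
  letI : Algebra P' A :=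
    (Ideal.Quotient.lift _ (algebraMap P A) fun a ha => by
      obtain ⟨b, rfl⟩ := Ideal.mem_span_singleton.1 ha
      rw [map_mul, hg₀, zero_mul]).toAlgebra
  haveI : IsScalarTower P P' A := IsScalarTower.of_algebraMap_eq (R := P) (S := P') (A := A) fun _ => rfl
  haveI : IsScalarTower R P' A := IsScalarTower.of_algebraMap_eq (R := R) (S := P') (A := A) fun a => by
    rw [IsScalarTower.algebraMap_apply R P P', ← IsScalarTower.algebraMap_apply P P' A,
      ← IsScalarTower.algebraMap_apply R P A]
  haveI : Algebra.IsIntegral P' A := Algebra.IsIntegral.tower_top P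
  letI : Module P' M := Module.compHom M (algebraMap P' A)
  haveI : IsScalarTower P' A M := IsScalarTower.of_algebraMap_smul fun _ _ => rfl
  rw [fp_iff R P P' A M]
  let g' : Fin r → P' := fun i => Ideal.Quotient.mk _ (g i)
  have hg' : ∀ i, algebraMap P' A (g' i) = f i := hg
  have hspan : Ideal.span (Set.range g') = ⊤ := by
    rw [Ideal.eq_top_iff_one, Ideal.mem_span_range_iff_exists_fun]
    refine ⟨fun i => Ideal.Quotient.mk _ (c' i), ?_⟩
    rw [← map_one (Ideal.Quotient.mk (Ideal.span {g₀})),
      show (∑ i, Ideal.Quotient.mk (Ideal.span {g₀}) (c' i) * g' i) = Ideal.Quotient.mk (Ideal.span {g₀}) (∑ i, c' i * g i) by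
        simp [g', map_sum]]
    refine Ideal.Quotient.eq.2 (Ideal.mem_span_singleton.2 ⟨-1, ?_⟩)
    simp only [g₀]; ring
  -- the local comparison
  have hloc : ∀ i, IsLocalizedModule (Submonoid.powers (g' i))
      ((LocalizedModule.mkLinearMap (Submonoid.powers (f i)) M).restrictScalars P') := fun i => by
    haveI : IsLocalizedModule (Submonoid.powers (algebraMap P' A (g' i)))
        (LocalizedModule.mkLinearMap (Submonoid.powers (f i)) M) := by rw [hg']; infer_instance
    exact IsLocalizedModule.restrictScalars_powers _ _
  have key : ∀ i, Module.FinitePresentation (Localization.Away (g' i)) (LocalizedModule.Away (g' i) M) ↔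
      Module.FinitePresentation (MvPolynomial (Fin (k i)) R) (LocalizedModule (Submonoid.powers (f i)) M) := by
    intro i
    let B := Localization.Away (f i)
    let L := Localization.Away (g' i)
    haveI : Algebra.FiniteType R B :=
      Algebra.FiniteType.of_surjective (IsScalarTower.toAlgHom R (MvPolynomial (Fin (k i)) R) B) (hγ i)
    haveI : Module.Finite (MvPolynomial (Fin (k i)) R) B :=
      finite_of_surjective_algebraMap (hγ i)
    haveI : Algebra.IsIntegral (MvPolynomial (Fin (k i)) R) B := Algebra.IsIntegral.of_finite _ B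
    letI algLB : Algebra L B := (IsLocalization.Away.lift (g' i) (g := algebraMap P' B) (by
      rw [IsScalarTower.algebraMap_apply P' A B, hg']
      exact IsLocalization.Away.algebraMap_isUnit (f i))).toAlgebra
    haveI : IsScalarTower P' L B := IsScalarTower.of_algebraMap_eq fun a =>
      (IsLocalization.Away.lift_eq (g' i) _ a).symm
    haveI : IsScalarTower R L B := IsScalarTower.of_algebraMap_eq fun a => by
      rw [IsScalarTower.algebraMap_apply R P' L, ← IsScalarTower.algebraMap_apply P' L B,
        ← IsScalarTower.algebraMap_apply R P' B]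
    have hsurj : Function.Surjective (algebraMap L B) := by
      intro b
      obtain ⟨⟨a, ⟨_, j, rfl⟩⟩, hb⟩ := IsLocalization.surj (Submonoid.powers (f i)) b
      obtain ⟨p, hp⟩ := hα a
      refine ⟨IsLocalization.mk' L (Ideal.Quotient.mk _ p : P') (⟨g' i ^ j, j, rfl⟩ : Submonoid.powers (g' i)), ?_⟩
      have hu : IsUnit (algebraMap A B (f i ^ j)) :=
        IsLocalization.map_units B (⟨f i ^ j, j, rfl⟩ : Submonoid.powers (f i))
      apply hu.mul_right_cancel
      have hfi : algebraMap A B (f i ^ j) = algebraMap L B (algebraMap P' L (g' i ^ j)) := by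
        rw [← IsScalarTower.algebraMap_apply P' L B, IsScalarTower.algebraMap_apply P' A B, map_pow, map_pow,
          map_pow, hg']
      refine Eq.trans ?_ hb.symm
      rw [hfi, ← map_mul, IsLocalization.mk'_spec, ← IsScalarTower.algebraMap_apply,
        IsScalarTower.algebraMap_apply P' A B]
      exact congrArg (algebraMap A B) hp
    haveI : Algebra.FinitePresentation R L := by
      haveI : Algebra.FinitePresentation P' L := IsLocalization.Away.finitePresentation (g' i)
      exact Algebra.FinitePresentation.trans R P' L
    haveI : Module.Finite L B := finite_of_surjective_algebraMap hsurj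
    haveI : Algebra.IsIntegral L B := Algebra.IsIntegral.of_finite L B
    letI : Module L (LocalizedModule (Submonoid.powers (f i)) M) := Module.compHom _ (algebraMap L B)
    haveI : IsScalarTower L B (LocalizedModule (Submonoid.powers (f i)) M) :=
      IsScalarTower.of_algebraMap_smul fun _ _ => rfl
    haveI : IsScalarTower P' L (LocalizedModule (Submonoid.powers (f i)) M) :=
      IsScalarTower.of_algebraMap_smul (R := P') (A := L) fun a m => by
        change algebraMap L B (algebraMap P' L a) • m = _
        rw [← IsScalarTower.algebraMap_apply, algebraMap_smul]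
    haveI := hloc i
    let e := IsLocalizedModule.iso (Submonoid.powers (g' i))
      ((LocalizedModule.mkLinearMap (Submonoid.powers (f i)) M).restrictScalars P')
    let e' := LinearEquiv.extendScalarsOfIsLocalization (Submonoid.powers (g' i)) L e
    rw [← fp_iff R L (MvPolynomial (Fin (k i)) R) B (LocalizedModule (Submonoid.powers (f i)) M)]
    exact e'.finitePresentation_iff
  constructor
  · intro h i
    rw [← key]
    haveI := h
    infer_instance
  · intro h
    exact Module.FinitePresentation.of_localizationSpan (Set.range g') hspan (by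
      rintro ⟨_, i, rfl⟩
      exact (key i).2 (h i))

end Groth.Agent.RelFP
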