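import Groth.Agent.RelFP.Basic
import Mathlib.RingTheory.IsTensorProduct

/-!
Relative finite presentation of modules: change of base, of algebra, of presentation.
-/

set_option autoImplicit false
set_option linter.style.haveILetI false
set_option backward.isDefEq.respectTransparency false
set_option backward.isDefEq.respectTransparency.types false
universe u

open scoped TensorProduct
open MvPolynomial

attribute [local instance] MvPolynomial.algebraMvPolynomial

namespace Groth.Agent.RelFP

theorem indep {R B : Type u} [CommRing R] [CommRing B] [Algebra R B] (P Q : Type u) [CommRing P] [CommRing Q]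
    [Algebra R P] [Algebra R Q] [Algebra.FinitePresentation R P] [Algebra.FinitePresentation R Q]
    (α : P →ₐ[R] B) (hα : Function.Surjective α) (β : Q →ₐ[R] B) (hβ : Function.Surjective β)
    (M : Type u) [AddCommGroup M] [Module B M]
    (h : @Module.FinitePresentation P M _ _ (Module.compHom M α.toRingHom)) :
    @Module.FinitePresentation Q M _ _ (Module.compHom M β.toRingHom) := by
  letI : Algebra P B := α.toRingHom.toAlgebra
  letI : Algebra Q B := β.toRingHom.toAlgebra
  letI : Module P M := Module.compHom M α.toRingHom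
  letI : Module Q M := Module.compHom M β.toRingHom
  haveI : IsScalarTower R P B := IsScalarTower.of_algebraMap_eq fun a => (α.commutes a).symm
  haveI : IsScalarTower R Q B := IsScalarTower.of_algebraMap_eq fun a => (β.commutes a).symm
  haveI : IsScalarTower P B M := IsScalarTower.of_algebraMap_smul fun _ _ => rfl
  haveI : IsScalarTower Q B M := IsScalarTower.of_algebraMap_smul fun _ _ => rfl
  haveI := finite_of_surjective_algebraMap (P := P) (A := B) hα
  haveI := finite_of_surjective_algebraMap (P := Q) (A := B) hβ
  haveI : Algebra.IsIntegral P B := Algebra.IsIntegral.of_finite P B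
  haveI : Algebra.IsIntegral Q B := Algebra.IsIntegral.of_finite Q B
  haveI : Algebra.FiniteType R P := inferInstance
  haveI : Algebra.FiniteType R B := Algebra.FiniteType.of_surjective α hα
  exact (fp_iff R P Q B M).1 h

/-- Changing a finitely presented intermediate base. -/
theorem change_base {R A B : Type u} [CommRing R] [CommRing A] [CommRing B] [Algebra R A] [Algebra A B] [Algebra R B]
    [IsScalarTower R A B] [Algebra.FinitePresentation R A] {n k : ℕ} (α : MvPolynomial (Fin n) A →ₐ[A] B)
    (hα : Function.Surjective α) (β : MvPolynomial (Fin k) R →ₐ[R] B) (hβ : Function.Surjective β)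
    (M : Type u) [AddCommGroup M] [Module B M]
    (hM : @Module.FinitePresentation (MvPolynomial (Fin n) A) M _ _ (Module.compHom M α.toRingHom)) :
    @Module.FinitePresentation (MvPolynomial (Fin k) R) M _ _ (Module.compHom M β.toRingHom) := by
  haveI : Algebra.FinitePresentation R (MvPolynomial (Fin n) A) :=
    Algebra.FinitePresentation.trans R A (MvPolynomial (Fin n) A)
  exact indep (MvPolynomial (Fin n) A) (MvPolynomial (Fin k) R) (α.restrictScalars R) hα β hβ M hM

/-- Finitely presented extensions of the algebra. -/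
theorem extend {R A A' : Type u} [CommRing R] [CommRing A] [CommRing A'] [Algebra R A] [Algebra A A']
    [Algebra R A'] [IsScalarTower R A A'] [Algebra.FinitePresentation A A'] {n k : ℕ}
    (α : MvPolynomial (Fin n) R →ₐ[R] A) (hα : Function.Surjective α)
    (γ : MvPolynomial (Fin k) R →ₐ[R] A') (hγ : Function.Surjective γ) (M : Type u) [AddCommGroup M] [Module A M]
    (hM : @Module.FinitePresentation (MvPolynomial (Fin n) R) M _ _ (Module.compHom M α.toRingHom)) :
    @Module.FinitePresentation (MvPolynomial (Fin k) R) (A' ⊗[A] M) _ _ (Module.compHom (A' ⊗[A] M) γ.toRingHom) := by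
  obtain ⟨N, ψ, hψ, hker⟩ := (Algebra.FinitePresentation.out (R := A) (A := A'))
  letI : Module (MvPolynomial (Fin n) R) M := Module.compHom M α.toRingHom
  letI : Algebra (MvPolynomial (Fin n) R) A := α.toRingHom.toAlgebra
  haveI : IsScalarTower (MvPolynomial (Fin n) R) A M := IsScalarTower.of_algebraMap_smul fun _ _ => rfl
  haveI : IsScalarTower R (MvPolynomial (Fin n) R) A := IsScalarTower.of_algebraMap_eq fun a => (α.commutes a).symm
  haveI : Module.Finite A M := Module.Finite.of_restrictScalars_finite (MvPolynomial (Fin n) R) A M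
  have hTB : Function.Surjective (algebraMap (MvPolynomial (Fin N) (MvPolynomial (Fin n) R)) (MvPolynomial (Fin N) A)) := MvPolynomial.map_surjective _ hα
  -- the base change to the polynomial ring
  haveI hT : Module.FinitePresentation (MvPolynomial (Fin N) (MvPolynomial (Fin n) R)) ((MvPolynomial (Fin N) (MvPolynomial (Fin n) R)) ⊗[(MvPolynomial (Fin n) R)] M) := inferInstance
  haveI hB : Module.FinitePresentation (MvPolynomial (Fin N) (MvPolynomial (Fin n) R)) ((MvPolynomial (Fin N) A) ⊗[A] M) :=
    @Module.FinitePresentation.of_equiv (MvPolynomial (Fin N) (MvPolynomial (Fin n) R)) ((MvPolynomial (Fin N) (MvPolynomial (Fin n) R)) ⊗[(MvPolynomial (Fin n) R)] M) ((MvPolynomial (Fin N) A) ⊗[A] M) _ _ _ _ _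
      (Algebra.IsPushout.cancelBaseChange (MvPolynomial (Fin n) R) (MvPolynomial (Fin N) (MvPolynomial (Fin n) R)) A (MvPolynomial (Fin N) A) M).symm hT
  -- the quotient
  letI : Algebra (MvPolynomial (Fin N) A) A' := ψ.toRingHom.toAlgebra
  haveI : IsScalarTower A (MvPolynomial (Fin N) A) A' := IsScalarTower.of_algebraMap_eq fun a => (ψ.commutes a).symm
  letI : Algebra (MvPolynomial (Fin N) (MvPolynomial (Fin n) R)) A' := ((algebraMap (MvPolynomial (Fin N) A) A').comp (algebraMap (MvPolynomial (Fin N) (MvPolynomial (Fin n) R)) (MvPolynomial (Fin N) A))).toAlgebra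
  haveI : IsScalarTower (MvPolynomial (Fin N) (MvPolynomial (Fin n) R)) (MvPolynomial (Fin N) A) A' := IsScalarTower.of_algebraMap_eq fun _ => rfl
  let f : (MvPolynomial (Fin N) A) ⊗[A] M →ₗ[(MvPolynomial (Fin N) A)] A' ⊗[A] M := TensorProduct.AlgebraTensorModule.map (Algebra.linearMap (MvPolynomial (Fin N) A) A') LinearMap.id
  have hf : Function.Surjective f := LinearMap.rTensor_surjective M (g := (Algebra.linearMap (MvPolynomial (Fin N) A) A').restrictScalars A) hψ
  have hkf : LinearMap.ker f = RingHom.ker ψ.toRingHom • ⊤ := by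
    refine le_antisymm (fun z hz => ?_) (Submodule.smul_le.2 fun r hr z _ => ?_)
    · obtain ⟨w, rfl⟩ := ((rTensor_exact M
        ((Algebra.linearMap (MvPolynomial (Fin N) A) A').restrictScalars A).exact_subtype_ker_map hψ) z).1 hz
      clear hz
      induction w using TensorProduct.induction_on with
      | zero => rw [map_zero]; exact Submodule.zero_mem _
      | add x y hx hy =>
        rw [map_add]
        exact Submodule.add_mem _ hx hy
      | tmul a m =>
        rw [LinearMap.rTensor_tmul, Submodule.subtype_apply,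
          show (a : (MvPolynomial (Fin N) A)) ⊗ₜ[A] m = (a : (MvPolynomial (Fin N) A)) • ((1 : (MvPolynomial (Fin N) A)) ⊗ₜ[A] m) by rw [TensorProduct.smul_tmul', smul_eq_mul, mul_one]]
        exact Submodule.smul_mem_smul a.2 Submodule.mem_top
    · rw [LinearMap.mem_ker, map_smul, ← IsScalarTower.algebraMap_smul A' r (f z)]
      rw [show algebraMap (MvPolynomial (Fin N) A) A' r = 0 from hr, zero_smul]
  have hfg : (LinearMap.ker f).FG := hkf ▸ Submodule.FG.smul hker Module.Finite.fg_top
  haveI : Module.FinitePresentation (MvPolynomial (Fin N) (MvPolynomial (Fin n) R)) (A' ⊗[A] M) :=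
    Module.finitePresentation_of_surjective (f.restrictScalars (MvPolynomial (Fin N) (MvPolynomial (Fin n) R))) hf
      (by rw [LinearMap.ker_restrictScalars]; exact hfg.restrictScalars_of_surjective hTB)
  haveI : IsScalarTower R (MvPolynomial (Fin N) (MvPolynomial (Fin n) R)) A' := IsScalarTower.of_algebraMap_eq fun a => by
    show _ = algebraMap (MvPolynomial (Fin N) A) A' (algebraMap (MvPolynomial (Fin N) (MvPolynomial (Fin n) R)) (MvPolynomial (Fin N) A) (algebraMap R (MvPolynomial (Fin N) (MvPolynomial (Fin n) R)) a))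
    rw [IsScalarTower.algebraMap_apply R A A', IsScalarTower.algebraMap_apply A (MvPolynomial (Fin N) A) A',
      IsScalarTower.algebraMap_apply R (MvPolynomial (Fin n) R) A, ← IsScalarTower.algebraMap_apply (MvPolynomial (Fin n) R) A (MvPolynomial (Fin N) A),
      IsScalarTower.algebraMap_apply R (MvPolynomial (Fin n) R) (MvPolynomial (Fin N) (MvPolynomial (Fin n) R)), ← IsScalarTower.algebraMap_apply (MvPolynomial (Fin n) R) (MvPolynomial (Fin N) (MvPolynomial (Fin n) R)) (MvPolynomial (Fin N) A)]
  letI : Algebra (MvPolynomial (Fin k) R) A' := γ.toRingHom.toAlgebra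
  letI : Module (MvPolynomial (Fin k) R) (A' ⊗[A] M) := Module.compHom _ γ.toRingHom
  haveI : IsScalarTower R (MvPolynomial (Fin k) R) A' := IsScalarTower.of_algebraMap_eq fun a => (γ.commutes a).symm
  haveI : IsScalarTower (MvPolynomial (Fin k) R) A' (A' ⊗[A] M) := IsScalarTower.of_algebraMap_smul fun _ _ => rfl
  haveI : Algebra.FinitePresentation R (MvPolynomial (Fin N) (MvPolynomial (Fin n) R)) := Algebra.FinitePresentation.trans R (MvPolynomial (Fin n) R) (MvPolynomial (Fin N) (MvPolynomial (Fin n) R))
  haveI := finite_of_surjective_algebraMap (P := MvPolynomial (Fin k) R) (A := A') hγ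
  haveI := finite_of_surjective_algebraMap (P := (MvPolynomial (Fin N) (MvPolynomial (Fin n) R))) (A := A') (hψ.comp hTB)
  haveI : Algebra.IsIntegral (MvPolynomial (Fin k) R) A' := Algebra.IsIntegral.of_finite _ _
  haveI : Algebra.IsIntegral (MvPolynomial (Fin N) (MvPolynomial (Fin n) R)) A' := Algebra.IsIntegral.of_finite _ _
  haveI : Algebra.FiniteType R A' := Algebra.FiniteType.of_surjective γ hγ
  exact (fp_iff R (MvPolynomial (Fin N) (MvPolynomial (Fin n) R)) (MvPolynomial (Fin k) R) A' (A' ⊗[A] M)).1 inferInstance

/-- Change of the base ring. -/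
theorem base_change {R A R' A' : Type u} [CommRing R] [CommRing A] [CommRing R'] [CommRing A'] [Algebra R A]
    [Algebra R R'] [Algebra A A'] [Algebra R' A'] [Algebra R A'] [IsScalarTower R A A'] [IsScalarTower R R' A']
    [Algebra.IsPushout R A R' A'] {n k : ℕ} (α : MvPolynomial (Fin n) R →ₐ[R] A) (hα : Function.Surjective α)
    (γ : MvPolynomial (Fin k) R' →ₐ[R'] A') (hγ : Function.Surjective γ) (M : Type u) [AddCommGroup M] [Module A M]
    (hM : @Module.FinitePresentation (MvPolynomial (Fin n) R) M _ _ (Module.compHom M α.toRingHom)) :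
    @Module.FinitePresentation (MvPolynomial (Fin k) R') (A' ⊗[A] M) _ _ (Module.compHom (A' ⊗[A] M) γ.toRingHom) := by
  letI : Module (MvPolynomial (Fin n) R) M := Module.compHom M α.toRingHom
  letI : Algebra (MvPolynomial (Fin n) R) A := α.toRingHom.toAlgebra
  haveI : IsScalarTower (MvPolynomial (Fin n) R) A M := IsScalarTower.of_algebraMap_smul fun _ _ => rfl
  haveI : IsScalarTower R (MvPolynomial (Fin n) R) A := IsScalarTower.of_algebraMap_eq fun a => (α.commutes a).symm
  let π : (MvPolynomial (Fin n) R') →ₐ[R'] A' := MvPolynomial.aeval fun i => algebraMap A A' (α (MvPolynomial.X i))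
  letI : Algebra (MvPolynomial (Fin n) R') A' := π.toRingHom.toAlgebra
  haveI : IsScalarTower R' (MvPolynomial (Fin n) R') A' := IsScalarTower.of_algebraMap_eq fun a => (π.commutes a).symm
  letI : Algebra (MvPolynomial (Fin n) R) A' := ((algebraMap A A').comp (algebraMap (MvPolynomial (Fin n) R) A)).toAlgebra
  haveI : IsScalarTower (MvPolynomial (Fin n) R) A A' := IsScalarTower.of_algebraMap_eq fun _ => rfl
  have hPT : ∀ p : (MvPolynomial (Fin n) R), algebraMap (MvPolynomial (Fin n) R') A' (algebraMap (MvPolynomial (Fin n) R) (MvPolynomial (Fin n) R') p) = algebraMap (MvPolynomial (Fin n) R) A' p := fun p => by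
    show π (MvPolynomial.map (algebraMap R R') p) = algebraMap A A' (α p)
    induction p using MvPolynomial.induction_on with
    | C a => simp [π, ← IsScalarTower.algebraMap_apply]
    | add p q hp hq => simp [hp, hq]
    | mul_X p i hp => simp [π] at hp ⊢; rw [hp]
  haveI : IsScalarTower (MvPolynomial (Fin n) R) (MvPolynomial (Fin n) R') A' := IsScalarTower.of_algebraMap_eq fun p => (hPT p).symm
  haveI : IsScalarTower R (MvPolynomial (Fin n) R') A' := IsScalarTower.of_algebraMap_eq fun a => by
    rw [IsScalarTower.algebraMap_apply R R' A', IsScalarTower.algebraMap_apply R R' (MvPolynomial (Fin n) R'),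
      ← IsScalarTower.algebraMap_apply R' (MvPolynomial (Fin n) R') A']
  haveI : IsScalarTower R (MvPolynomial (Fin n) R) A' := IsScalarTower.of_algebraMap_eq fun a => by
    rw [IsScalarTower.algebraMap_apply R A A', IsScalarTower.algebraMap_apply R (MvPolynomial (Fin n) R) A,
      ← IsScalarTower.algebraMap_apply (MvPolynomial (Fin n) R) A A']
  haveI : Algebra.IsPushout (MvPolynomial (Fin n) R) A (MvPolynomial (Fin n) R') A' :=
    (Algebra.IsPushout.comp_iff (R := R) (S := MvPolynomial (Fin n) R) (R' := R') (S' := MvPolynomial (Fin n) R')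
      (T := A) (T' := A')).1 inferInstance
  haveI : Algebra.IsPushout (MvPolynomial (Fin n) R) (MvPolynomial (Fin n) R') A A' := .symm inferInstance
  haveI hT : Module.FinitePresentation (MvPolynomial (Fin n) R') ((MvPolynomial (Fin n) R') ⊗[(MvPolynomial (Fin n) R)] M) := inferInstance
  haveI : Module.FinitePresentation (MvPolynomial (Fin n) R') (A' ⊗[A] M) :=
    @Module.FinitePresentation.of_equiv (MvPolynomial (Fin n) R') ((MvPolynomial (Fin n) R') ⊗[(MvPolynomial (Fin n) R)] M) (A' ⊗[A] M) _ _ _ _ _
      (Algebra.IsPushout.cancelBaseChange (MvPolynomial (Fin n) R) (MvPolynomial (Fin n) R') A A' M).symm hT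
  have hπ : Function.Surjective (algebraMap (MvPolynomial (Fin n) R') A') := fun z => by
    obtain ⟨w, rfl⟩ := (Algebra.IsPushout.equiv (MvPolynomial (Fin n) R) (MvPolynomial (Fin n) R') A A').surjective z
    induction w using TensorProduct.induction_on with
    | zero => exact ⟨0, by simp⟩
    | add x y hx hy =>
      obtain ⟨a, ha⟩ := hx
      obtain ⟨b, hb⟩ := hy
      exact ⟨a + b, by simp [ha, hb]⟩
    | tmul t a =>
      obtain ⟨p, rfl⟩ := hα a
      refine ⟨t * algebraMap (MvPolynomial (Fin n) R) (MvPolynomial (Fin n) R') p, ?_⟩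
      rw [Algebra.IsPushout.equiv_tmul, map_mul, hPT]
      rfl
  letI : Algebra (MvPolynomial (Fin k) R') A' := γ.toRingHom.toAlgebra
  letI : Module (MvPolynomial (Fin k) R') (A' ⊗[A] M) := Module.compHom _ γ.toRingHom
  haveI : IsScalarTower R' (MvPolynomial (Fin k) R') A' := IsScalarTower.of_algebraMap_eq fun a => (γ.commutes a).symm
  haveI : IsScalarTower (MvPolynomial (Fin k) R') A' (A' ⊗[A] M) := IsScalarTower.of_algebraMap_smul fun _ _ => rfl
  haveI := finite_of_surjective_algebraMap (P := MvPolynomial (Fin k) R') (A := A') hγ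
  haveI := finite_of_surjective_algebraMap (P := (MvPolynomial (Fin n) R')) (A := A') hπ
  haveI : Algebra.IsIntegral (MvPolynomial (Fin k) R') A' := Algebra.IsIntegral.of_finite _ _
  haveI : Algebra.IsIntegral (MvPolynomial (Fin n) R') A' := Algebra.IsIntegral.of_finite _ _
  haveI : Algebra.FiniteType R' A' := Algebra.FiniteType.of_surjective γ hγ
  exact (fp_iff R' (MvPolynomial (Fin n) R') (MvPolynomial (Fin k) R') A' (A' ⊗[A] M)).1 inferInstance

end Groth.Agent.RelFP
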